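import Cfsg.Agent.CosetCert.Fi22Chain4.CheckLog
import Cfsg.Agent.CosetCert.Fi22Chain4.CheckTable
import Cfsg.Agent.CosetCert.Upper

/-! Generated: validity of the certificate. -/

namespace Cfsg.Agent.CosetCert.Fi22Chain4

theorem log_valid : data.LogValid where
  n_pos := by decide +kernel
  root := by decide +kernel
  log := log_ok
  coset := coset_ok
  iv_iv := fun x hx => ⟨rfl, hx⟩
  iv_big := fun _ _ => rfl
  pw := by decide +kernel
  letters := by decide +kernel
  K_small := by decide +kernel
  nR_le := by decide +kernel

end Cfsg.Agent.CosetCert.Fi22Chain4
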