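import Cfsg.Agent.CosetCert.Pack

/-! Generated: the facts of the log. -/

namespace Cfsg.Agent.CosetCert.Fi22Chain4

def factStore : Store := (.leaf 0x10000f0000f030000f0000f020000f0000f000000f0000f020000e0000e000000e0000e030000e0000e030000d0000d040000d0000d000000d0000c030000c0000c010000c0000c040000c0000c010000b0000b040000b0000b030000b0000a010000a0000a040000a0000a020000a0000a040000900009030000900008040000800008020000800008030000700006020000700007000000700007020000600004000000600006020000500005010000500005000000500005010000400004030000400004000000400004010000300003000000300003000000200002030000200002040000100001030000100001020000100001040000000000030000000000020000000000010000000000040000f0000e010000e0000d020000d0000b020000c00009000000b00009000000a00008010000900007010000800006040000700005040000600003030000500003040000400002020000300002010000200001000000100000)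

end Cfsg.Agent.CosetCert.Fi22Chain4
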