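import Cfsg.Agent.CosetCert.Pack

/-! Generated: the justifications. -/

namespace Cfsg.Agent.CosetCert.Fi22Chain4

def justStore : Store := (.leaf 0x380000d0000ce0000d80003a0a00100001fc0001ac0001d03000d0000fe0000de0000e81800580007f00006d0000740c00100003f40000c0000ba0000c800036000a0c0001da000190000610001940001b0500010000ed0000d20000d80018380007600005800014c000590000640014280003700002d8000320006160001b6000054000190300020000cb00009c0002580009e0000b80028500006580001000011c0001100005c14001800032c0002880002e00061600019400004000045000044000150005010000ba0000a20000a80018200005c80004f000054000c0c0002e40000700008200007800026000a02000152000134000130003040000a90000960000980018100005400000c0000f40000d00004400142000027800049000044000c1c0002780000a0000cc0000b00003c001420000238000420000e40004300003c001418000228000090000340c00340001b00003f0000340c002c0001f00003b0000340c00100001f00000a00005818005800025000062000058180020000340000080001680000a0000482800500002c0000660000481800380002c0000620000481800180002e0000080002b00000c0000705000800004c0001680000e06001a0000980002f00001c0c001000012000004000138000060000282800300001c0000bc000050300020000380000000007c0000100000c1400040000a0000a400003000307000029400001000304000018c0000100030300001840000100030200001c000005c00002c000015000000118201182011820118201182010f90109c0103f00fe200f5900ed000e7300dea00d8d00d3000ca700c1e00bc100b3800adb00a7e009f5009980093b008b200856007ce00746006ea0068e00632005d70057b004f3004970043b003b400359002fe002770021c001960013c000f4000ac000640004b000320001900000000000000000000000000000000000000000000000000000000000000000000000000000000)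

end Cfsg.Agent.CosetCert.Fi22Chain4
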