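import Cfsg.Agent.CosetCert.Pack

/-! Generated: the table. -/

namespace Cfsg.Agent.CosetCert.Fi22Chain4

def edgeStore : Store := (.leaf 0x1d0000e00000750000f00000730000f00000770000f00000710000f000001c0000f000006b0000e000006f0000e000001b0000d000006d0000e00000670000d00000690000d00000190000b000001a0000e00000650000c000005f0000c00000630000c00000170000900000610000c00000640000d000005b0000b00000590000a00000180000d000005d0000b00000150000900000550000a00000580000b00000530000a00000570000a000001300008000005100009000004f0000800000160000c00000110000700000140000b000004d00008000004e00009000004b00008000000f0000600000120000a000000d00005000004900006000004700007000001000009000004500007000000b00003000004800007000004300004000000e00008000004100006000000c00007000000900003000003f00005000003d00005000003b00005000000700002000003700004000004200006000003900004000003500004000000a00006000000800005000000500002000003300003000003100003000000600004000002d00002000000400003000000300001000002f00002000002b00001000002900001000002700001000000200002000000100000000002500000000002300000000002100000000001f00000000000000001)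

def repStore : Store := (.leaf 0xf00000000000e00000000000d00000000000c00000000000b00000000000a000000000009000000000008000000000007000000000006000000000005000000000004000000000003000000000002000000000001000000000000)

def treeStore : Store := (.leaf 0x1c40000000001a10000000001620000000001220000000001200000000001000000000000e10000000000c10000000000a4000000000064000000000063000000000044000000000042000000000021000000000000000000000000)

end Cfsg.Agent.CosetCert.Fi22Chain4
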